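import Groth.Agent.Lib.RelAmple18.Generated
import Groth.Agent.Lib.SerreAff11.Ideal
import Mathlib.AlgebraicGeometry.QuasiAffine

/-!
Global generation and quasi-affineness: extension of sections and unit germs.
-/

set_option autoImplicit false
set_option backward.isDefEq.respectTransparency false
set_option linter.style.haveILetI false

universe u

open CategoryTheory Limits AlgebraicGeometry TopologicalSpace Opposite

namespace Groth.Agent.QAGen11

open Groth.Agent.Amp Groth.Agent.M1
open Groth.Agent.M2 (pullSec)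

variable {X Y : Scheme.{u}}

theorem image_basicOpen_inv (W : X.Opens) (r : Γ(X, W)) :
    W.ι ''ᵁ W.toScheme.basicOpen (W.topIso.inv r) = X.basicOpen r := by
  rw [Scheme.image_basicOpen]
  simp
  exact X.basicOpen_res_eq r (eqToHom (congrArg Opposite.op (Scheme.Opens.ι_image_top W).symm))

/-- A section on a basic open of a compact quasi-separated open extends up to a unit. -/
theorem exists_section_unit_smul (M : X.Modules) [hM : Coh.IsQCoh M] (W : X.Opens) [CompactSpace (W : Scheme.{u})]
    [QuasiSeparatedSpace (W : Scheme.{u})] (r : Γ(X, W)) (m : Γ(M, X.basicOpen r)) :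
    ∃ (t : Γ(M, W)) (u : Γ(X, X.basicOpen r)), IsUnit u ∧ mres M (X.basicOpen_le r) t = u • m := by
  haveI : Coh.IsQCoh (M.restrict W.ι) := M1.isQCoh_restrict hM W.ι
  let r' : Γ(W.toScheme, ⊤) := W.topIso.inv r
  let T : W.toScheme.Opens := ⊤ ⊓ W.toScheme.basicOpen r'
  have hD : W.ι ''ᵁ W.toScheme.basicOpen r' = X.basicOpen r := image_basicOpen_inv W r
  have hT : W.ι ''ᵁ T = X.basicOpen r := by
    rw [show T = W.toScheme.basicOpen r' from top_inf_eq _, hD]
  obtain ⟨n, t₀, ht⟩ := locSurj_of_isCompact (M.restrict W.ι) r' (U := ⊤) isCompact_univ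
    ((M.restrictAppIso W.ι T).inv (mres M hT.le m))
  let v : Γ(X, W.ι ''ᵁ T) := (W.ι.appIso T).inv (rs T r' ^ n)
  have hv : IsUnit v := ((isUnit_rs (inf_le_right : T ≤ W.toScheme.basicOpen r')).pow n).map _
  have h1 := congr((M.restrictAppIso W.ι T).hom $ht)
  rw [Scheme.Modules.smul_restrictAppIso_hom_apply, Iso.inv_hom_id_apply] at h1
  have h2 : mres M (W.ι.image_mono (inf_le_left : T ≤ ⊤)) ((M.restrictAppIso W.ι ⊤).hom t₀) =
      v • mres M hT.le m := h1
  refine ⟨mres M (image_ι_top W).ge ((M.restrictAppIso W.ι ⊤).hom t₀), X.presheaf.map (homOfLE hT.ge).op v,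
    hv.map _, ?_⟩
  have h3 := congrArg (mres M hT.ge) h2
  rw [mres_mres, Scheme.Modules.map_smul, mres_mres, mres_id] at h3
  rw [mres_mres]
  exact h3

/-- On a quasi-affine open every germ is a multiple of the germ of a section. -/
theorem exists_smul_germ_eq (F : X.Modules) [Coh.IsQCoh F] (W : X.Opens) [(W : Scheme.{u}).IsQuasiAffine]
    {x : X} (hx : x ∈ W) (a : (F.presheaf.stalk x : Type u)) :
    ∃ (t : Γ(F, W)) (c : X.presheaf.stalk x), c • gm F x hx t = a := by
  obtain ⟨_, ⟨_, ⟨r', hr', rfl⟩, rfl⟩, hxr, -⟩ :=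
    (Scheme.IsQuasiAffine.isBasis_basicOpen (W : Scheme.{u})).exists_subset_of_mem_open
      (show (⟨x, hx⟩ : W.toScheme) ∈ (Set.univ : Set W.toScheme) from trivial) isOpen_univ
  let r : Γ(X, W) := W.topIso.hom r'
  have hr : W.topIso.inv r = r' := Iso.hom_inv_id_apply W.topIso r'
  have hD : W.ι ''ᵁ W.toScheme.basicOpen r' = X.basicOpen r := hr ▸ image_basicOpen_inv W r
  have hA : IsAffineOpen (X.basicOpen r) := hD ▸ hr'.image_of_isOpenImmersion W.ι
  have hxD : x ∈ X.basicOpen r := hD.le ⟨⟨x, hx⟩, hxr, rfl⟩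
  obtain ⟨c, m, hc, hcm⟩ := exists_germ_smul_eq F hA hxD a
  obtain ⟨t, u, hu, ht⟩ := exists_section_unit_smul F W r m
  obtain ⟨d, hd⟩ := ((hu.map (X.presheaf.germ _ x hxD).hom).mul hc)
  refine ⟨t, (↑d⁻¹ : X.presheaf.stalk x), ?_⟩
  have h : gm F x hx t = (d : X.presheaf.stalk x) • a := by
    rw [hd, mul_smul, hcm, ← gm_smul, ← ht, gm_res]
  rw [h, ← mul_smul, Units.inv_mul, one_smul]

theorem isInvertible_unit (X : Scheme.{u}) : PicF.IsInvertible (Coh.structureModule X) :=
  PicLoc.isInvertible_structureModule X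

theorem gen_of_isUnit {x : X} {U : X.Opens} (hx : x ∈ U) (s : Γ(X, U))
    (h : IsUnit (X.presheaf.germ U x hx s)) :
    Gen (gm (Coh.structureModule X) x hx (show Γ(Coh.structureModule X, U) from s)) := by
  have e : (show Γ(Coh.structureModule X, U) from s) = s • (show Γ(Coh.structureModule X, U) from (1 : Γ(X, U))) :=
    (mul_one s).symm
  rw [e, gm_smul, (gen_one x hx).ne_zero_smul]
  exact h

theorem isUnit_of_gen {x : X} {U : X.Opens} (hx : x ∈ U) (s : Γ(X, U))
    (h : Gen (gm (Coh.structureModule X) x hx (show Γ(Coh.structureModule X, U) from s))) :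
    IsUnit (X.presheaf.germ U x hx s) := by
  have e : (show Γ(Coh.structureModule X, U) from s) = s • (show Γ(Coh.structureModule X, U) from (1 : Γ(X, U))) :=
    (mul_one s).symm
  rw [e, gm_smul, (gen_one x hx).ne_zero_smul] at h
  exact h

/-- A map hitting one near a point does not vanish at the point. -/
theorem comp_residue_ne_zero {M : X.Modules} (φ : M ⟶ Coh.structureModule X) {x : X} {U : X.Opens}
    (hx : x ∈ U) (a : Γ(M, U)) (ha : φ.app U a = (show Γ(Coh.structureModule X, U) from (1 : Γ(X, U)))) :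
    φ ≫ (Scheme.Modules.pullbackPushforwardAdjunction (X.fromSpecResidueField x)).unit.app _ ≠ 0 := fun h0 => by
  let y : Spec (X.residueField x) := default
  have hy : X.fromSpecResidueField x y ∈ U := by rw [X.fromSpecResidueField_apply x y]; exact hx
  have hg : Gen (gm (Coh.structureModule X) _ hy (φ.app U a)) := by rw [ha]; exact gen_one _ _
  rw [← gen_pullSec_iff (X.fromSpecResidueField x) (isInvertible_unit X) hy] at hg
  have hz : pullSec (X.fromSpecResidueField x) (Coh.structureModule X) (φ.app U a) = 0 := by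
    change (φ ≫ (Scheme.Modules.pullbackPushforwardAdjunction (X.fromSpecResidueField x)).unit.app _).app U a = 0
    rw [h0]; rfl
  rw [hz] at hg
  exact not_gen_zero (PicLoc.isInvertible_pullback (X.fromSpecResidueField x) (isInvertible_unit X)) y
    (by rwa [show gm _ y hy (0 : Γ((Scheme.Modules.pullback (X.fromSpecResidueField x)).obj (Coh.structureModule X), _)) = 0 from map_zero _] at hg)

/-- A globally generated module reaching one near a point has a section with unit value there. -/
theorem exists_unit_of_globallyGenerated {M : X.Modules} (φ : M ⟶ Coh.structureModule X) {x : X} {U : X.Opens}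
    (hx : x ∈ U) (a : Γ(M, U)) (ha : φ.app U a = (show Γ(Coh.structureModule X, U) from (1 : Γ(X, U))))
    (h : Curv2.IsGloballyGenerated M) :
    ∃ t : Γ(M, ⊤), x ∈ X.basicOpen (show Γ(X, ⊤) from φ.app ⊤ t) := by
  obtain ⟨ι, p, hp⟩ := h
  by_contra hc
  push Not at hc
  refine comp_residue_ne_zero φ hx a ha ((cancel_epi p).mp ?_)
  rw [comp_zero]
  refine M1.free_hom_ext fun i => ?_
  rw [comp_zero]
  change ((Scheme.Modules.pullbackPushforwardAdjunction (X.fromSpecResidueField x)).unit.app _).app ⊤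
    (φ.app ⊤ ((M1.ιF i ≫ p).app ⊤ (M1.one ⊤))) = 0
  refine RA.pullSec_residue_eq_zero (isInvertible_unit X) x _ fun hx' hg => hc ((M1.ιF i ≫ p).app ⊤ (M1.one ⊤)) ?_
  exact (Scheme.mem_basicOpen X _ x hx').2 (isUnit_of_gen hx' _ hg)

/-- A module with epimorphic counit reaching one near a point has a section with unit value there. -/
theorem exists_unit_of_epi_counit (f : X ⟶ Y) {M : X.Modules} (φ : M ⟶ Coh.structureModule X) {x : X}
    {U : X.Opens} (hx : x ∈ U) (a : Γ(M, U))
    (ha : φ.app U a = (show Γ(Coh.structureModule X, U) from (1 : Γ(X, U))))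
    [Epi ((Scheme.Modules.pullbackPushforwardAdjunction f).counit.app M)] :
    ∃ (V : Y.Opens) (t : Γ(M, f ⁻¹ᵁ V)), x ∈ X.basicOpen (show Γ(X, f ⁻¹ᵁ V) from φ.app (f ⁻¹ᵁ V) t) := by
  by_contra hc
  push Not at hc
  refine comp_residue_ne_zero φ hx a ha ((cancel_epi ((Scheme.Modules.pullbackPushforwardAdjunction f).counit.app M)).mp ?_)
  rw [comp_zero]
  apply ((Scheme.Modules.pullbackPushforwardAdjunction f).homEquiv _ _).injective
  simp only [Adjunction.homEquiv_unit, Functor.map_zero, comp_zero, Functor.map_comp,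
    Adjunction.right_triangle_components_assoc]
  refine Scheme.Modules.hom_ext _ _ fun V => ?_
  ext t
  exact RA.pullSec_residue_eq_zero (isInvertible_unit X) x (U := f ⁻¹ᵁ V) (φ.app (f ⁻¹ᵁ V) t)
    fun hx' hg => hc V t ((Scheme.mem_basicOpen X _ x hx').2 (isUnit_of_gen hx' _ hg))

/-- An open is quasi-affine if it is covered by affine basic opens of its functions. -/
theorem isQuasiAffine_of_forall (W : X.Opens) [CompactSpace (W : Scheme.{u})]
    (H : ∀ x ∈ W, ∃ r : Γ(X, W), IsAffineOpen (X.basicOpen r) ∧ x ∈ X.basicOpen r) :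
    (W : Scheme.{u}).IsQuasiAffine := by
  refine Scheme.IsQuasiAffine.of_forall_exists_mem_basicOpen _ fun y => ?_
  obtain ⟨r, hr, hy⟩ := H y.1 y.2
  have hD := image_basicOpen_inv W r
  refine ⟨W.topIso.inv r, ?_, ?_⟩
  · rw [← W.ι.isAffineOpen_iff_of_isOpenImmersion, hD]
    exact hr
  · obtain ⟨z, hz, e⟩ := hD.ge hy
    obtain rfl : z = y := W.ι.isOpenEmbedding.injective e
    exact hz

end Groth.Agent.QAGen11
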